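import Cfsg.Agent.H835.Five
import Cfsg.Agent.H935.Meet.Base

/-!
# `Fi22`: trivial intersections of Sylow 2-subgroups (helper867)

`I : Inv K T`, `u` of order five. `z` is an involution of the Frobenius group `N(⟨u⟩) ∩ C(Fx T u)` of order twenty. It is the
product of two commuting transpositions (class 2B), hence `C(z)` has odd index; `C(z) ∩ C(u z u⁻¹)` is contained in
`C(u) = ⟨u⟩ × S5` and contains `S5`, and `MeetIn 2 S5`.

* `meet_S5` : `MeetIn 2 (Perm (Fin 5))`;
* `card_pair` : `|C(a b)| = 53084160` for commuting transpositions `a ≠ b`;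
* `meetIn` : `Inv K T → MeetIn 2 K`;
* `meet2_Fi22`, `meet2_IsoFi22`.
-/

set_option autoImplicit false

namespace Cfsg.Agent.H867.Meet.FiTwentyTwo

open Cfsg Subgroup Equiv Cfsg.Agent.LThreeFi22 Cfsg.Agent.H836 Cfsg.Agent.R01.FiFusion Cfsg.Agent.R01.FiFacts
open Cfsg.Agent.SporRec.Co3 Cfsg.Agent.SporRec.Co3.FiveHom Cfsg.Agent.H835.SymFive Cfsg.Agent.H835.Five
open Cfsg.Agent.H68.MeetB Cfsg.Agent.H935.Meet
open Cfsg.Agent.KFacts.FiTT (TK)

universe v

/-! ### The symmetric group of degree five -/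

/-- an involution with a centralizer of order eight -/
def s0 : P5 := swap 0 1 * swap 2 3

theorem card_cs0 : (Finset.univ.filter fun p : P5 => p * s0 = s0 * p).card = 8 := by decide +kernel

theorem no_comm : ∀ y : P5, y * y = 1 → y * s0 = s0 * y → y * (cyc * s0 * cyc⁻¹) = (cyc * s0 * cyc⁻¹) * y → y = 1 := by
  decide +kernel

theorem meet_S5 : MeetIn 2 P5 := by
  classical
  refine of_pair (z := s0) (x := cyc) ?_ no_comm
  apply not_dvd_index (n := 3)
  · have h1 : Nat.card ↥(centralizer ({s0} : Set P5)) = 8 := by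
      rw [← card_cs0, Nat.card_eq_fintype_card]
      apply Fintype.card_of_subtype
      intro p
      rw [Finset.mem_filter, mem_centralizer_singleton_iff]
      exact ⟨fun h => h.2, fun h => ⟨Finset.mem_univ _, h⟩⟩
    rw [h1]
    norm_num
  · rw [card_P5]
    norm_num

section

variable {K : Type v} [Group K] {T : Set K}

/-! ### The centralizer of a product of two commuting transpositions -/

theorem card_cent_pair (C : Ctx K T) {a b : K} (ha : a ∈ T) (hb : b ∈ T) (hne : a ≠ b) (hab : a * b = b * a) :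
    Nat.card ↥(centralizer ({a} : Set K) ⊓ centralizer ({b} : Set K)) = 26542080 := by
  have := C.finite
  have h1 := orbit_card (centralizer ({a} : Set K)) b (S := {c | c ∈ T ∧ c ≠ a ∧ a * c = c * a}) (by
    intro x
    constructor
    · rintro ⟨hx, hxa, hax⟩
      obtain ⟨g, hg1, hg2⟩ := C.transC a ha b hb a ha x hx hne hxa.symm hab hax
      exact ⟨g, mem_centralizer_singleton_iff.2 (mul_inv_eq_iff_eq_mul.1 hg1), hg2.symm⟩
    · rintro ⟨g, hg, rfl⟩
      have h2 : g * a * g⁻¹ = a := mul_inv_eq_iff_eq_mul.2 (mem_centralizer_singleton_iff.1 hg)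
      refine ⟨C.conj b hb g, fun h => hne ?_, ?_⟩
      · have h3 : g * b * g⁻¹ = g * a * g⁻¹ := h.trans h2.symm
        exact (mul_left_cancel (mul_right_cancel h3)).symm
      · have h3 := (conj_comm_iff g a b).2 hab
        rw [h2] at h3
        exact h3)
  rw [C.link a ha, C.card_cent ha] at h1
  omega

theorem card_pair (C : Ctx K T) {a b : K} (ha : a ∈ T) (hb : b ∈ T) (hne : a ≠ b) (hab : a * b = b * a) :
    Nat.card ↥(centralizer ({a * b} : Set K)) = 53084160 := by
  have := C.finite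
  have h1 := orbit_card (centralizer ({a * b} : Set K)) a (S := {a, b}) (by
    intro x
    constructor
    · rintro (rfl | hx)
      · exact ⟨1, one_mem _, by group⟩
      · rw [Set.mem_singleton_iff] at hx
        subst hx
        obtain ⟨g, hg1, hg2⟩ := C.transC a ha x hb x hb a ha hne hne.symm hab hab.symm
        refine ⟨g, mem_centralizer_singleton_iff.2 (mul_inv_eq_iff_eq_mul.1 ?_), hg1.symm⟩
        calc g * (a * x) * g⁻¹ = g * a * g⁻¹ * (g * x * g⁻¹) := by group
          _ = a * x := by rw [hg1, hg2, hab]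
    · rintro ⟨h, hh, rfl⟩
      rcases C.cz a ha b hb hne hab h (mem_centralizer_singleton_iff.1 hh) with ⟨h2, -⟩ | ⟨h2, -⟩
      · exact Or.inl (mul_inv_eq_iff_eq_mul.2 h2)
      · exact Or.inr h2)
  have h2 : centralizer ({a * b} : Set K) ⊓ centralizer ({a} : Set K) =
      centralizer ({a} : Set K) ⊓ centralizer ({b} : Set K) := by
    ext x
    rw [mem_inf, mem_inf, mem_centralizer_singleton_iff, mem_centralizer_singleton_iff, mem_centralizer_singleton_iff]
    constructor
    · rintro ⟨h3, h4⟩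
      refine ⟨h4, ?_⟩
      have h5 : a * (x * b) = a * (b * x) := by
        rw [← mul_assoc, ← h4, mul_assoc, h3, mul_assoc]
      exact mul_left_cancel h5
    · rintro ⟨h3, h4⟩
      refine ⟨?_, h3⟩
      rw [← mul_assoc, h3, mul_assoc, h4, mul_assoc]
  rw [h2, card_cent_pair C ha hb hne hab, Set.ncard_pair hne] at h1
  omega

/-! ### The involution inverting `u` -/

variable (I : Inv K T) {u : K} (hu : u ^ 5 = 1) (hu1 : u ≠ 1)
include I hu hu1

/-- an involution of `N(⟨u⟩) ∩ C(Fx T u)` inverting `u` -/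
theorem exists_z : ∃ z : K, z * z = 1 ∧ z ≠ 1 ∧ z * u * z⁻¹ = u⁻¹ ∧ ∀ t ∈ Fx T u, z * t = t * z := by
  have hfin := I.ctx.finite
  have h5 : Fact (Nat.Prime 5) := ⟨by norm_num⟩
  have huo : orderOf u = 5 := orderOf_eq_prime hu hu1
  obtain ⟨F, hF, hXF, hFC, -, hcomm, hsup, -⟩ := (five_concl I).2 (zpowers u) (by rw [Nat.card_zpowers, huo])
  rw [Main.inter_eq u] at hcomm hsup
  rw [Main.centralizer_zpowers] at hFC
  have h2 : Fact (Nat.Prime 2) := ⟨by norm_num⟩
  obtain ⟨z, hz⟩ := exists_prime_orderOf_dvd_card' (G := ↥F) 2 (by rw [hF]; norm_num)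
  have hzo : orderOf (z : K) = 2 := by rw [Subgroup.orderOf_coe, hz]
  have hzz : (z : K) * z = 1 := by rw [← pow_two, ← hzo]; exact pow_orderOf_eq_one _
  have hz1 : (z : K) ≠ 1 := by
    intro h
    rw [h, orderOf_one] at hzo
    norm_num at hzo
  have hzC : (z : K) * u ≠ u * z := by
    intro h
    have h3 : (z : K) ∈ F ⊓ centralizer ({u} : Set K) := ⟨z.2, mem_centralizer_singleton_iff.2 h⟩
    rw [hFC] at h3
    have h4 : orderOf (z : K) ∣ 5 := by
      have h4 := Subgroup.orderOf_dvd_natCard _ h3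
      rwa [Nat.card_zpowers, huo] at h4
    rw [hzo] at h4
    norm_num at h4
  have hzN : (z : K) ∈ normalizer ((zpowers u : Subgroup K) : Set K) := by
    rw [← hsup]
    exact (le_sup_left : F ≤ _) z.2
  have h3 : (z : K) * u * (z : K)⁻¹ ∈ zpowers u := (mem_normalizer_iff.1 hzN u).1 (mem_zpowers u)
  have h4 : ∃ k : ℕ, k < 5 ∧ u ^ k = (z : K) * u * (z : K)⁻¹ := by
    obtain ⟨k, hk⟩ := (Submonoid.mem_powers_iff _ _).1 (mem_powers_iff_mem_zpowers.2 h3)
    refine ⟨k % 5, Nat.mod_lt _ (by norm_num), ?_⟩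
    rw [← hk, ← huo, pow_mod_orderOf]
  obtain ⟨k, hk, hku⟩ := h4
  have hzi : (z : K)⁻¹ = z := inv_eq_of_mul_eq_one_left hzz
  have hkk : u ^ (k * k) = u := by
    rw [pow_mul, hku, conj_pow, hku, hzi]
    calc (z : K) * (z * u * z) * z = (z * z) * u * (z * z) := by group
      _ = u := by rw [hzz, one_mul, mul_one]
  have h5' : k = 4 := by
    have h6 : u ^ (k * k) = u ^ 1 := by rw [hkk, pow_one]
    have h7 : (k * k) % 5 = 1 % 5 := by
      have := (pow_eq_pow_iff_modEq (x := u)).1 h6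
      rwa [huo] at this
    interval_cases k
    · norm_num at h7
    · exfalso
      apply hzC
      rw [pow_one] at hku
      exact (mul_inv_eq_iff_eq_mul.1 hku.symm)
    · norm_num at h7
    · norm_num at h7
    · rfl
  subst h5'
  refine ⟨z, hzz, hz1, ?_, fun t ht => hcomm z z.2 t (subset_closure ht)⟩
  rw [← hku]
  exact eq_inv_of_mul_eq_one_left (by rw [← pow_succ, hu])

omit I in
/-- `u ^ n ≠ 1` for `n` prime to five -/
theorem pow_ne {n : ℕ} (hn : ¬ 5 ∣ n) : u ^ n ≠ 1 := by
  have h5 : Fact (Nat.Prime 5) := ⟨by norm_num⟩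
  intro h
  apply hn
  rw [← orderOf_eq_prime hu hu1]
  exact orderOf_dvd_of_pow_eq_one h

/-- the involution inverting `u` and commuting with `Fx T u` is a product of two commuting transpositions -/
theorem pair_of_inv {z : K} (hzz : z * z = 1) (hz1 : z ≠ 1) (hzu : z * u * z⁻¹ = u⁻¹)
    (hzS : ∀ t ∈ Fx T u, z * t = t * z) : ∃ a ∈ T, ∃ b ∈ T, a ≠ b ∧ a * b = b * a ∧ z = a * b := by
  have hfin := I.ctx.finite
  have hzi : z⁻¹ = z := inv_eq_of_mul_eq_one_left hzz
  rcases I.inv z hzz with h | h | h | ⟨a, b, c, ht, rfl⟩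
  · exact absurd h hz1
  · exfalso
    -- the product of two conjugates of `z`
    have h1 : (u * z * u⁻¹) * z = u ^ 2 := by
      have h2 : z * u⁻¹ * z⁻¹ = u := by rw [← conj_inv, hzu, inv_inv]
      calc (u * z * u⁻¹) * z = u * (z * u⁻¹ * z⁻¹) := by rw [hzi]; group
        _ = u ^ 2 := by rw [h2, pow_two]
    have hz' := I.ctx.conj z h u
    by_cases h2 : (u * z * u⁻¹) * z = z * (u * z * u⁻¹)
    · have h3 : ((u * z * u⁻¹) * z) ^ 2 = 1 := by
        have h4 : (u * z * u⁻¹) * (u * z * u⁻¹) = 1 := I.ctx.sq _ hz'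
        calc ((u * z * u⁻¹) * z) ^ 2 = (u * z * u⁻¹) * (z * (u * z * u⁻¹)) * z := by rw [pow_two]; group
          _ = (u * z * u⁻¹) * (u * z * u⁻¹) * (z * z) := by rw [← h2]; group
          _ = 1 := by rw [h4, hzz, one_mul]
      rw [h1, ← pow_mul] at h3
      exact pow_ne hu hu1 (by norm_num) h3
    · have h3 := I.ctx.cube hz' h h2
      rw [h1, ← pow_mul] at h3
      exact pow_ne hu hu1 (by norm_num) h3
  · exact h
  · exfalso
    obtain ⟨f, hf, hS, hcl⟩ := exists_sym I.ctx hu hu1
    have key : ∀ s ∈ T, (∀ t ∈ Fx T u, t * s = s * t) → s ∈ Fx T (f cyc) := by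
      intro s hs hst
      refine ⟨hs, ?_⟩
      have h1 : closure (Fx T u) ≤ centralizer ({s} : Set K) := by
        rw [closure_le]
        intro t ht
        exact mem_centralizer_singleton_iff.2 (hst t ht)
      rw [hcl] at h1
      exact mem_centralizer_singleton_iff.1 (h1 ⟨cyc, rfl⟩)
    have hc : ∀ t ∈ Fx T u, t * a = a * t ∧ t * b = b * t ∧ t * c = c * t := fun t htS =>
      I.comm_tri ht htS.1 (hzS t htS).symm
    have ha := key a ht.mx fun t h => (hc t h).1
    have hb := key b ht.my fun t h => (hc t h).2.1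
    have hc' := key c ht.mw fun t h => (hc t h).2.2
    have hv : (f cyc) ^ 5 = 1 := by rw [← map_pow, cyc_pow, map_one]
    have hv1 : f cyc ≠ 1 := by
      intro h
      apply cyc_ne
      apply hf
      rw [h, map_one]
    exact ht.yw (I.ctx.five_free hv hv1 ha hb hc' ht.xy.symm ht.xw.symm ht.cxy ht.cxw ht.cyw)

end

variable {K : Type v} [Group K] {T : Set K}

/-- **the Sylow 2-subgroups of `Fi22`** -/
theorem meetIn (I : Inv K T) : MeetIn 2 K := by
  have hfin := I.ctx.finite
  have h5 : Fact (Nat.Prime 5) := ⟨by norm_num⟩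
  have h2 : Fact (Nat.Prime 2) := ⟨by norm_num⟩
  obtain ⟨u, huo⟩ := exists_prime_orderOf_dvd_card' (G := K) 5 (by rw [I.ctx.card]; norm_num)
  have hu : u ^ 5 = 1 := by rw [← huo]; exact pow_orderOf_eq_one u
  have hu1 : u ≠ 1 := by
    rintro rfl
    rw [orderOf_one] at huo
    norm_num at huo
  obtain ⟨z, hzz, hz1, hzu, hzS⟩ := exists_z I hu hu1
  obtain ⟨a, ha, b, hb, hne, hab, hz⟩ := pair_of_inv I hu hu1 hzz hz1 hzu hzS
  have hi : ¬ 2 ∣ (centralizer ({z} : Set K)).index := by
    apply not_dvd_index (n := 17)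
    · rw [hz, card_pair I.ctx ha hb hne hab]
      norm_num
    · rw [I.ctx.card]
      norm_num
  obtain ⟨f, hf, hS, hcl⟩ := exists_sym I.ctx hu hu1
  refine of_inter hi u ?_
  set D : Subgroup K := centralizer ({z} : Set K) ⊓ (centralizer ({z} : Set K)).map (MulAut.conj u).toMonoidHom with hD
  have hfu : ∀ p : P5, f p * u = u * f p := by
    intro p
    have h1 : closure (Fx T u) ≤ centralizer ({u} : Set K) := by
      rw [closure_le]
      intro t ht
      exact mem_centralizer_singleton_iff.2 ht.2.symm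
    rw [hcl] at h1
    exact mem_centralizer_singleton_iff.1 (h1 ⟨p, rfl⟩)
  have hfz : ∀ p : P5, f p ∈ centralizer ({z} : Set K) := by
    intro p
    have h1 : closure (Fx T u) ≤ centralizer ({z} : Set K) := by
      rw [closure_le]
      intro t ht
      exact mem_centralizer_singleton_iff.2 (hzS t ht).symm
    rw [hcl] at h1
    exact h1 ⟨p, rfl⟩
  have hfD : ∀ p : P5, f p ∈ D := by
    intro p
    refine mem_inf.2 ⟨hfz p, ⟨f p, hfz p, ?_⟩⟩
    show u * f p * u⁻¹ = f p
    rw [← hfu p, mul_inv_cancel_right]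
  have hDu : D ≤ centralizer ({u} : Set K) := by
    intro y hy
    obtain ⟨h3, w, hw, hwy⟩ := mem_inf.1 hy
    have hwy' : u * w * u⁻¹ = y := hwy
    have hyz : y * z = z * y := mem_centralizer_singleton_iff.1 h3
    have hwz : w * z = z * w := mem_centralizer_singleton_iff.1 hw
    have hzi : z⁻¹ = z := inv_eq_of_mul_eq_one_left hzz
    have h1 : (u * z * u⁻¹) * z = u * u := by
      have h2 : z * u⁻¹ * z⁻¹ = u := by rw [← conj_inv, hzu, inv_inv]
      calc (u * z * u⁻¹) * z = u * (z * u⁻¹ * z⁻¹) := by rw [hzi]; group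
        _ = u * u := by rw [h2]
    have h4 : y * (u * z * u⁻¹) = (u * z * u⁻¹) * y := by
      rw [← hwy']
      calc u * w * u⁻¹ * (u * z * u⁻¹) = u * (w * z) * u⁻¹ := by group
        _ = u * (z * w) * u⁻¹ := by rw [hwz]
        _ = u * z * u⁻¹ * (u * w * u⁻¹) := by group
    apply mem_centralizer_singleton_iff.2
    apply comm_of_sq (by rw [huo]; decide)
    rw [← h1]
    calc y * ((u * z * u⁻¹) * z) = (y * (u * z * u⁻¹)) * z := by group
      _ = (u * z * u⁻¹) * (y * z) := by rw [h4]; group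
      _ = (u * z * u⁻¹) * z * y := by rw [hyz]; group
  let f' : P5 →* ↥D := f.codRestrict D hfD
  have hf' : Function.Injective f' := by
    intro p q h
    exact hf (congrArg Subtype.val h)
  refine MeetIn.of_hom f' hf' ?_ meet_S5
  intro h6
  have h7 : Nat.card ↥f'.range = 120 := by
    rw [← card_P5]
    exact (Nat.card_congr (MonoidHom.ofInjective hf').toEquiv).symm
  have h8 := f'.range.card_mul_index
  have h9 : Nat.card ↥D ∣ 600 := by
    rw [← card_centralizer I hu hu1]
    exact card_dvd_of_le hDu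
  rw [← h8, h7] at h9
  have h10 : f'.range.index ∣ 5 := by
    have : 120 * f'.range.index ∣ 120 * 5 := h9
    exact Nat.dvd_of_mul_dvd_mul_left (by norm_num) this
  have := h6.trans h10
  norm_num at this

/-- **`Fi22`** -/
theorem meet2_Fi22 : MeetIn 2 Spor.Fi22 := meetIn (inv_of_iso (MulEquiv.refl Spor.Fi22))

/-- the row `Fi22` -/
theorem meet2_IsoFi22 {G : Type*} [Group G] (h : Spor.IsoFi22 G) : MeetIn 2 G :=
  h.elim fun e => meet2_Fi22.congr e.symm

end Cfsg.Agent.H867.Meet.FiTwentyTwo
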